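import Mathlib
import Cfsg.Agent.TcChain36.Fi22.Top.Tab

set_option autoImplicit false
set_option maxRecDepth 100000
set_option linter.all false

namespace Cfsg.Agent.TcChain36.Fi22.Top

open Cfsg.Spor Cfsg.Agent.Lib.TcFacts Cfsg.Agent.Lib.TcBits Cfsg.Agent.Lib.TcPres

theorem b0 : Block F al 0 256 241 :=
  block_of_check (k := 8) rfl (by decide +kernel)

theorem b1 : Block F al 256 512 195 :=
  block_of_check (k := 8) rfl (by decide +kernel)

theorem b2 : Block F al 512 768 195 :=
  block_of_check (k := 8) rfl (by decide +kernel)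

theorem b3 : Block F al 768 1024 164 :=
  block_of_check (k := 8) rfl (by decide +kernel)

theorem b4 : Block F al 1024 1280 126 :=
  block_of_check (k := 8) rfl (by decide +kernel)

theorem b5 : Block F al 1280 1536 185 :=
  block_of_check (k := 8) rfl (by decide +kernel)

theorem b6 : Block F al 1536 1792 120 :=
  block_of_check (k := 8) rfl (by decide +kernel)

theorem b7 : Block F al 1792 2048 171 :=
  block_of_check (k := 8) rfl (by decide +kernel)

theorem b8 : Block F al 2048 2304 73 :=
  block_of_check (k := 8) rfl (by decide +kernel)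

theorem b9 : Block F al 2304 2560 164 :=
  block_of_check (k := 8) rfl (by decide +kernel)

theorem b10 : Block F al 2560 2816 117 :=
  block_of_check (k := 8) rfl (by decide +kernel)

theorem b11 : Block F al 2816 3072 54 :=
  block_of_check (k := 8) rfl (by decide +kernel)

theorem b12 : Block F al 3072 3328 129 :=
  block_of_check (k := 8) rfl (by decide +kernel)

theorem b13 : Block F al 3328 3584 144 :=
  block_of_check (k := 8) rfl (by decide +kernel)

theorem b14 : Block F al 3584 3840 89 :=
  block_of_check (k := 8) rfl (by decide +kernel)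

theorem b15 : Block F al 3840 4096 24 :=
  block_of_check (k := 8) rfl (by decide +kernel)

theorem b16 : Block F al 4096 4352 44 :=
  block_of_check (k := 8) rfl (by decide +kernel)

theorem b17 : Block F al 4352 4608 209 :=
  block_of_check (k := 8) rfl (by decide +kernel)

theorem b18 : Block F al 4608 4864 85 :=
  block_of_check (k := 8) rfl (by decide +kernel)

theorem b19 : Block F al 4864 5120 133 :=
  block_of_check (k := 8) rfl (by decide +kernel)

theorem b20 : Block F al 5120 5376 4 :=
  block_of_check (k := 8) rfl (by decide +kernel)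

theorem b21 : Block F al 5376 5632 12 :=
  block_of_check (k := 8) rfl (by decide +kernel)

theorem b22 : Block F al 5632 5888 55 :=
  block_of_check (k := 8) rfl (by decide +kernel)

theorem b23 : Block F al 5888 6144 136 :=
  block_of_check (k := 8) rfl (by decide +kernel)

theorem b24 : Block F al 6144 6400 174 :=
  block_of_check (k := 8) rfl (by decide +kernel)

theorem b25 : Block F al 6400 6656 67 :=
  block_of_check (k := 8) rfl (by decide +kernel)

theorem b26 : Block F al 6656 6912 135 :=
  block_of_check (k := 8) rfl (by decide +kernel)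

theorem b27 : Block F al 6912 7168 19 :=
  block_of_check (k := 8) rfl (by decide +kernel)

theorem b28 : Block F al 7168 7424 2 :=
  block_of_check (k := 8) rfl (by decide +kernel)

theorem b29 : Block F al 7424 7680 7 :=
  block_of_check (k := 8) rfl (by decide +kernel)

theorem b30 : Block F al 7680 7936 59 :=
  block_of_check (k := 8) rfl (by decide +kernel)

theorem b31 : Block F al 7936 8192 18 :=
  block_of_check (k := 8) rfl (by decide +kernel)

theorem b32 : Block F al 8192 8448 197 :=
  block_of_check (k := 8) rfl (by decide +kernel)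

theorem b33 : Block F al 8448 8704 182 :=
  block_of_check (k := 8) rfl (by decide +kernel)

theorem b34 : Block F al 8704 8960 71 :=
  block_of_check (k := 8) rfl (by decide +kernel)

theorem b35 : Block F al 8960 9216 46 :=
  block_of_check (k := 8) rfl (by decide +kernel)

theorem b36 : Block F al 9216 9472 121 :=
  block_of_check (k := 8) rfl (by decide +kernel)

theorem b37 : Block F al 9472 9728 17 :=
  block_of_check (k := 8) rfl (by decide +kernel)

theorem b38 : Block F al 9728 9984 72 :=
  block_of_check (k := 8) rfl (by decide +kernel)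

theorem b39 : Block F al 9984 10240 250 :=
  block_of_check (k := 8) rfl (by decide +kernel)

theorem b40 : Block F al 10240 10496 256 :=
  block_of_check (k := 8) rfl (by decide +kernel)

theorem b41 : Block F al 10496 10752 256 :=
  block_of_check (k := 8) rfl (by decide +kernel)

theorem b42 : Block F al 10752 11008 256 :=
  block_of_check (k := 8) rfl (by decide +kernel)

theorem b43 : Block F al 11008 11264 256 :=
  block_of_check (k := 8) rfl (by decide +kernel)

theorem b44 : Block F al 11264 11520 256 :=
  block_of_check (k := 8) rfl (by decide +kernel)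

theorem b45 : Block F al 11520 11776 256 :=
  block_of_check (k := 8) rfl (by decide +kernel)

theorem b46 : Block F al 11776 12032 256 :=
  block_of_check (k := 8) rfl (by decide +kernel)

theorem b47 : Block F al 12032 12288 256 :=
  block_of_check (k := 8) rfl (by decide +kernel)

theorem b48 : Block F al 12288 12544 256 :=
  block_of_check (k := 8) rfl (by decide +kernel)

theorem b49 : Block F al 12544 12800 256 :=
  block_of_check (k := 8) rfl (by decide +kernel)

theorem b50 : Block F al 12800 13056 256 :=
  block_of_check (k := 8) rfl (by decide +kernel)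

theorem b51 : Block F al 13056 13312 256 :=
  block_of_check (k := 8) rfl (by decide +kernel)

theorem b52 : Block F al 13312 13568 256 :=
  block_of_check (k := 8) rfl (by decide +kernel)

theorem b53 : Block F al 13568 13824 256 :=
  block_of_check (k := 8) rfl (by decide +kernel)

theorem b54 : Block F al 13824 14080 256 :=
  block_of_check (k := 8) rfl (by decide +kernel)

theorem b55 : Block F al 14080 14336 256 :=
  block_of_check (k := 8) rfl (by decide +kernel)

theorem b56 : Block F al 14336 14592 256 :=
  block_of_check (k := 8) rfl (by decide +kernel)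

theorem b57 : Block F al 14592 14848 256 :=
  block_of_check (k := 8) rfl (by decide +kernel)

theorem b58 : Block F al 14848 15104 256 :=
  block_of_check (k := 8) rfl (by decide +kernel)

theorem b59 : Block F al 15104 15360 256 :=
  block_of_check (k := 8) rfl (by decide +kernel)

theorem b60 : Block F al 15360 15616 256 :=
  block_of_check (k := 8) rfl (by decide +kernel)

theorem b61 : Block F al 15616 15872 256 :=
  block_of_check (k := 8) rfl (by decide +kernel)

theorem b62 : Block F al 15872 16128 256 :=
  block_of_check (k := 8) rfl (by decide +kernel)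

theorem b63 : Block F al 16128 16384 256 :=
  block_of_check (k := 8) rfl (by decide +kernel)

theorem b64 : Block F al 16384 16640 256 :=
  block_of_check (k := 8) rfl (by decide +kernel)

theorem b65 : Block F al 16640 16896 256 :=
  block_of_check (k := 8) rfl (by decide +kernel)

theorem b66 : Block F al 16896 17152 256 :=
  block_of_check (k := 8) rfl (by decide +kernel)

theorem b67 : Block F al 17152 17408 256 :=
  block_of_check (k := 8) rfl (by decide +kernel)

theorem b68 : Block F al 17408 17664 256 :=
  block_of_check (k := 8) rfl (by decide +kernel)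

theorem b69 : Block F al 17664 17920 256 :=
  block_of_check (k := 8) rfl (by decide +kernel)

theorem b70 : Block F al 17920 18176 256 :=
  block_of_check (k := 8) rfl (by decide +kernel)

theorem b71 : Block F al 18176 18432 256 :=
  block_of_check (k := 8) rfl (by decide +kernel)

theorem b72 : Block F al 18432 18688 256 :=
  block_of_check (k := 8) rfl (by decide +kernel)

theorem b73 : Block F al 18688 18944 256 :=
  block_of_check (k := 8) rfl (by decide +kernel)

theorem b74 : Block F al 18944 19200 256 :=
  block_of_check (k := 8) rfl (by decide +kernel)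

theorem b75 : Block F al 19200 19456 256 :=
  block_of_check (k := 8) rfl (by decide +kernel)

theorem b76 : Block F al 19456 19712 256 :=
  block_of_check (k := 8) rfl (by decide +kernel)

theorem b77 : Block F al 19712 19968 256 :=
  block_of_check (k := 8) rfl (by decide +kernel)

theorem b78 : Block F al 19968 20224 46 :=
  block_of_check (k := 8) rfl (by decide +kernel)

theorem c0 : Block F al 0 256 241 := b0

theorem c1 : Block F al 0 512 436 :=
  block_comb c0 b1 (Nat.zero_le _) (Nat.le_of_ble_eq_true rfl) rfl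

theorem c2 : Block F al 0 768 631 :=
  block_comb c1 b2 (Nat.zero_le _) (Nat.le_of_ble_eq_true rfl) rfl

theorem c3 : Block F al 0 1024 795 :=
  block_comb c2 b3 (Nat.zero_le _) (Nat.le_of_ble_eq_true rfl) rfl

theorem c4 : Block F al 0 1280 921 :=
  block_comb c3 b4 (Nat.zero_le _) (Nat.le_of_ble_eq_true rfl) rfl

theorem c5 : Block F al 0 1536 1106 :=
  block_comb c4 b5 (Nat.zero_le _) (Nat.le_of_ble_eq_true rfl) rfl

theorem c6 : Block F al 0 1792 1226 :=
  block_comb c5 b6 (Nat.zero_le _) (Nat.le_of_ble_eq_true rfl) rfl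

theorem c7 : Block F al 0 2048 1397 :=
  block_comb c6 b7 (Nat.zero_le _) (Nat.le_of_ble_eq_true rfl) rfl

theorem c8 : Block F al 0 2304 1470 :=
  block_comb c7 b8 (Nat.zero_le _) (Nat.le_of_ble_eq_true rfl) rfl

theorem c9 : Block F al 0 2560 1634 :=
  block_comb c8 b9 (Nat.zero_le _) (Nat.le_of_ble_eq_true rfl) rfl

theorem c10 : Block F al 0 2816 1751 :=
  block_comb c9 b10 (Nat.zero_le _) (Nat.le_of_ble_eq_true rfl) rfl

theorem c11 : Block F al 0 3072 1805 :=
  block_comb c10 b11 (Nat.zero_le _) (Nat.le_of_ble_eq_true rfl) rfl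

theorem c12 : Block F al 0 3328 1934 :=
  block_comb c11 b12 (Nat.zero_le _) (Nat.le_of_ble_eq_true rfl) rfl

theorem c13 : Block F al 0 3584 2078 :=
  block_comb c12 b13 (Nat.zero_le _) (Nat.le_of_ble_eq_true rfl) rfl

theorem c14 : Block F al 0 3840 2167 :=
  block_comb c13 b14 (Nat.zero_le _) (Nat.le_of_ble_eq_true rfl) rfl

theorem c15 : Block F al 0 4096 2191 :=
  block_comb c14 b15 (Nat.zero_le _) (Nat.le_of_ble_eq_true rfl) rfl

theorem c16 : Block F al 0 4352 2235 :=
  block_comb c15 b16 (Nat.zero_le _) (Nat.le_of_ble_eq_true rfl) rfl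

theorem c17 : Block F al 0 4608 2444 :=
  block_comb c16 b17 (Nat.zero_le _) (Nat.le_of_ble_eq_true rfl) rfl

theorem c18 : Block F al 0 4864 2529 :=
  block_comb c17 b18 (Nat.zero_le _) (Nat.le_of_ble_eq_true rfl) rfl

theorem c19 : Block F al 0 5120 2662 :=
  block_comb c18 b19 (Nat.zero_le _) (Nat.le_of_ble_eq_true rfl) rfl

theorem c20 : Block F al 0 5376 2666 :=
  block_comb c19 b20 (Nat.zero_le _) (Nat.le_of_ble_eq_true rfl) rfl

theorem c21 : Block F al 0 5632 2678 :=
  block_comb c20 b21 (Nat.zero_le _) (Nat.le_of_ble_eq_true rfl) rfl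

theorem c22 : Block F al 0 5888 2733 :=
  block_comb c21 b22 (Nat.zero_le _) (Nat.le_of_ble_eq_true rfl) rfl

theorem c23 : Block F al 0 6144 2869 :=
  block_comb c22 b23 (Nat.zero_le _) (Nat.le_of_ble_eq_true rfl) rfl

theorem c24 : Block F al 0 6400 3043 :=
  block_comb c23 b24 (Nat.zero_le _) (Nat.le_of_ble_eq_true rfl) rfl

theorem c25 : Block F al 0 6656 3110 :=
  block_comb c24 b25 (Nat.zero_le _) (Nat.le_of_ble_eq_true rfl) rfl

theorem c26 : Block F al 0 6912 3245 :=
  block_comb c25 b26 (Nat.zero_le _) (Nat.le_of_ble_eq_true rfl) rfl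

theorem c27 : Block F al 0 7168 3264 :=
  block_comb c26 b27 (Nat.zero_le _) (Nat.le_of_ble_eq_true rfl) rfl

theorem c28 : Block F al 0 7424 3266 :=
  block_comb c27 b28 (Nat.zero_le _) (Nat.le_of_ble_eq_true rfl) rfl

theorem c29 : Block F al 0 7680 3273 :=
  block_comb c28 b29 (Nat.zero_le _) (Nat.le_of_ble_eq_true rfl) rfl

theorem c30 : Block F al 0 7936 3332 :=
  block_comb c29 b30 (Nat.zero_le _) (Nat.le_of_ble_eq_true rfl) rfl

theorem c31 : Block F al 0 8192 3350 :=
  block_comb c30 b31 (Nat.zero_le _) (Nat.le_of_ble_eq_true rfl) rfl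

theorem c32 : Block F al 0 8448 3547 :=
  block_comb c31 b32 (Nat.zero_le _) (Nat.le_of_ble_eq_true rfl) rfl

theorem c33 : Block F al 0 8704 3729 :=
  block_comb c32 b33 (Nat.zero_le _) (Nat.le_of_ble_eq_true rfl) rfl

theorem c34 : Block F al 0 8960 3800 :=
  block_comb c33 b34 (Nat.zero_le _) (Nat.le_of_ble_eq_true rfl) rfl

theorem c35 : Block F al 0 9216 3846 :=
  block_comb c34 b35 (Nat.zero_le _) (Nat.le_of_ble_eq_true rfl) rfl

theorem c36 : Block F al 0 9472 3967 :=
  block_comb c35 b36 (Nat.zero_le _) (Nat.le_of_ble_eq_true rfl) rfl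

theorem c37 : Block F al 0 9728 3984 :=
  block_comb c36 b37 (Nat.zero_le _) (Nat.le_of_ble_eq_true rfl) rfl

theorem c38 : Block F al 0 9984 4056 :=
  block_comb c37 b38 (Nat.zero_le _) (Nat.le_of_ble_eq_true rfl) rfl

theorem c39 : Block F al 0 10240 4306 :=
  block_comb c38 b39 (Nat.zero_le _) (Nat.le_of_ble_eq_true rfl) rfl

theorem c40 : Block F al 0 10496 4562 :=
  block_comb c39 b40 (Nat.zero_le _) (Nat.le_of_ble_eq_true rfl) rfl

theorem c41 : Block F al 0 10752 4818 :=
  block_comb c40 b41 (Nat.zero_le _) (Nat.le_of_ble_eq_true rfl) rfl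

theorem c42 : Block F al 0 11008 5074 :=
  block_comb c41 b42 (Nat.zero_le _) (Nat.le_of_ble_eq_true rfl) rfl

theorem c43 : Block F al 0 11264 5330 :=
  block_comb c42 b43 (Nat.zero_le _) (Nat.le_of_ble_eq_true rfl) rfl

theorem c44 : Block F al 0 11520 5586 :=
  block_comb c43 b44 (Nat.zero_le _) (Nat.le_of_ble_eq_true rfl) rfl

theorem c45 : Block F al 0 11776 5842 :=
  block_comb c44 b45 (Nat.zero_le _) (Nat.le_of_ble_eq_true rfl) rfl

theorem c46 : Block F al 0 12032 6098 :=
  block_comb c45 b46 (Nat.zero_le _) (Nat.le_of_ble_eq_true rfl) rfl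

theorem c47 : Block F al 0 12288 6354 :=
  block_comb c46 b47 (Nat.zero_le _) (Nat.le_of_ble_eq_true rfl) rfl

theorem c48 : Block F al 0 12544 6610 :=
  block_comb c47 b48 (Nat.zero_le _) (Nat.le_of_ble_eq_true rfl) rfl

theorem c49 : Block F al 0 12800 6866 :=
  block_comb c48 b49 (Nat.zero_le _) (Nat.le_of_ble_eq_true rfl) rfl

theorem c50 : Block F al 0 13056 7122 :=
  block_comb c49 b50 (Nat.zero_le _) (Nat.le_of_ble_eq_true rfl) rfl

theorem c51 : Block F al 0 13312 7378 :=
  block_comb c50 b51 (Nat.zero_le _) (Nat.le_of_ble_eq_true rfl) rfl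

theorem c52 : Block F al 0 13568 7634 :=
  block_comb c51 b52 (Nat.zero_le _) (Nat.le_of_ble_eq_true rfl) rfl

theorem c53 : Block F al 0 13824 7890 :=
  block_comb c52 b53 (Nat.zero_le _) (Nat.le_of_ble_eq_true rfl) rfl

theorem c54 : Block F al 0 14080 8146 :=
  block_comb c53 b54 (Nat.zero_le _) (Nat.le_of_ble_eq_true rfl) rfl

theorem c55 : Block F al 0 14336 8402 :=
  block_comb c54 b55 (Nat.zero_le _) (Nat.le_of_ble_eq_true rfl) rfl

theorem c56 : Block F al 0 14592 8658 :=
  block_comb c55 b56 (Nat.zero_le _) (Nat.le_of_ble_eq_true rfl) rfl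

theorem c57 : Block F al 0 14848 8914 :=
  block_comb c56 b57 (Nat.zero_le _) (Nat.le_of_ble_eq_true rfl) rfl

theorem c58 : Block F al 0 15104 9170 :=
  block_comb c57 b58 (Nat.zero_le _) (Nat.le_of_ble_eq_true rfl) rfl

theorem c59 : Block F al 0 15360 9426 :=
  block_comb c58 b59 (Nat.zero_le _) (Nat.le_of_ble_eq_true rfl) rfl

theorem c60 : Block F al 0 15616 9682 :=
  block_comb c59 b60 (Nat.zero_le _) (Nat.le_of_ble_eq_true rfl) rfl

theorem c61 : Block F al 0 15872 9938 :=
  block_comb c60 b61 (Nat.zero_le _) (Nat.le_of_ble_eq_true rfl) rfl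

theorem c62 : Block F al 0 16128 10194 :=
  block_comb c61 b62 (Nat.zero_le _) (Nat.le_of_ble_eq_true rfl) rfl

theorem c63 : Block F al 0 16384 10450 :=
  block_comb c62 b63 (Nat.zero_le _) (Nat.le_of_ble_eq_true rfl) rfl

theorem c64 : Block F al 0 16640 10706 :=
  block_comb c63 b64 (Nat.zero_le _) (Nat.le_of_ble_eq_true rfl) rfl

theorem c65 : Block F al 0 16896 10962 :=
  block_comb c64 b65 (Nat.zero_le _) (Nat.le_of_ble_eq_true rfl) rfl

theorem c66 : Block F al 0 17152 11218 :=
  block_comb c65 b66 (Nat.zero_le _) (Nat.le_of_ble_eq_true rfl) rfl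

theorem c67 : Block F al 0 17408 11474 :=
  block_comb c66 b67 (Nat.zero_le _) (Nat.le_of_ble_eq_true rfl) rfl

theorem c68 : Block F al 0 17664 11730 :=
  block_comb c67 b68 (Nat.zero_le _) (Nat.le_of_ble_eq_true rfl) rfl

theorem c69 : Block F al 0 17920 11986 :=
  block_comb c68 b69 (Nat.zero_le _) (Nat.le_of_ble_eq_true rfl) rfl

theorem c70 : Block F al 0 18176 12242 :=
  block_comb c69 b70 (Nat.zero_le _) (Nat.le_of_ble_eq_true rfl) rfl

theorem c71 : Block F al 0 18432 12498 :=
  block_comb c70 b71 (Nat.zero_le _) (Nat.le_of_ble_eq_true rfl) rfl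

theorem c72 : Block F al 0 18688 12754 :=
  block_comb c71 b72 (Nat.zero_le _) (Nat.le_of_ble_eq_true rfl) rfl

theorem c73 : Block F al 0 18944 13010 :=
  block_comb c72 b73 (Nat.zero_le _) (Nat.le_of_ble_eq_true rfl) rfl

theorem c74 : Block F al 0 19200 13266 :=
  block_comb c73 b74 (Nat.zero_le _) (Nat.le_of_ble_eq_true rfl) rfl

theorem c75 : Block F al 0 19456 13522 :=
  block_comb c74 b75 (Nat.zero_le _) (Nat.le_of_ble_eq_true rfl) rfl

theorem c76 : Block F al 0 19712 13778 :=
  block_comb c75 b76 (Nat.zero_le _) (Nat.le_of_ble_eq_true rfl) rfl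

theorem c77 : Block F al 0 19968 14034 :=
  block_comb c76 b77 (Nat.zero_le _) (Nat.le_of_ble_eq_true rfl) rfl

theorem c78 : Block F al 0 20224 14080 :=
  block_comb c77 b78 (Nat.zero_le _) (Nat.le_of_ble_eq_true rfl) rfl

end Cfsg.Agent.TcChain36.Fi22.Top
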